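import Groth.Prelude.Def_W4c1chowmix47Eta
import Mathlib.RingTheory.Valuation.LocalSubring
import Mathlib.Algebra.CharP.Lemmas
import Mathlib.Algebra.CharP.Algebra

/-!
Basic lemmas on the pointwise construction of `EtaPt`: evaluation at field valued points,
the valuative description of `M`, propagation of zeros and integrality.
-/

universe u

namespace Groth.Agent.EtaPtLib

open EtaPt IsLocalRing

variable {η : EtaPt.FieldEndo.{u}}

theorem map_eta_apply (η : EtaPt.FieldEndo.{u}) {K L : Type u} [Field K] [Field L] (σ : K →+* L) (x : K) :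
    η.map σ (η.eta K x) = η.eta L (σ x) :=
  RingHom.congr_fun (η.eta_natural σ) x

theorem map_map_apply (η : EtaPt.FieldEndo.{u}) {K L E : Type u} [Field K] [Field L] [Field E]
    (σ : K →+* L) (τ : L →+* E) (x : η.obj K) : η.map (τ.comp σ) x = η.map τ (η.map σ x) :=
  RingHom.congr_fun (η.map_comp σ τ) x

theorem pow_expChar_pow_injective {k : Type*} [Field k] (q : ℕ) [ExpChar k q] (n : ℕ) :
    Function.Injective fun x : k => x ^ q ^ n := by
  intro a b h
  simp only at h
  rw [← sub_eq_zero, ← sub_pow_expChar_pow, pow_eq_zero_iff (pow_ne_zero n (expChar_pos k q).ne')] at h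
  exact sub_eq_zero.mp h

theorem expChar_of_hom {K L : Type*} [Field K] [Field L] (σ : K →+* L) :
    ExpChar L (ringExpChar K) :=
  expChar_of_injective_ringHom σ.injective _

theorem eta_obj (η : EtaPt.FieldEndo.{u}) (K : Type u) [Field K] :
    η.eta (η.obj K) = η.map (η.eta K) := by
  ext x
  obtain ⟨n, a, ha⟩ := η.exists_pow_mem_range_eta K x
  haveI := expChar_of_hom ((η.eta (η.obj K)).comp (η.eta K))
  apply pow_expChar_pow_injective (ringExpChar K) n
  simp only
  rw [← map_pow, ← map_pow, ← ha, map_eta_apply]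

/-- `η` is bijective at `F K`. -/
theorem bijective_eta_obj (η : EtaPt.FieldEndo.{u}) (K : Type u) [Field K] :
    Function.Bijective (η.eta (η.obj K)) := by
  rw [eta_obj]
  exact η.bijective_map_eta K

theorem map_bijective_of_bijective (η : EtaPt.FieldEndo.{u}) {K L : Type u} [Field K] [Field L]
    (σ : K →+* L) (hσ : Function.Bijective σ) : Function.Bijective (η.map σ) := by
  set e := RingEquiv.ofBijective σ hσ
  have h1 : σ.comp e.symm.toRingHom = RingHom.id L := RingHom.ext fun x => e.apply_symm_apply x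
  refine ⟨(η.map σ).injective, fun y => ⟨η.map e.symm.toRingHom y, ?_⟩⟩
  rw [← map_map_apply, h1, η.map_id]
  rfl

theorem bijective_eta_of_ringEquiv (η : EtaPt.FieldEndo.{u}) {K L : Type u} [Field K] [Field L]
    (e : K ≃+* L) (hK : Function.Bijective (η.eta K)) : Function.Bijective (η.eta L) := by
  refine ⟨(η.eta L).injective, fun y => ?_⟩
  obtain ⟨z, hz⟩ := (map_bijective_of_bijective η e.toRingHom e.bijective).2 y
  obtain ⟨w, hw⟩ := hK.2 z
  exact ⟨e w, by rw [← hz, ← hw, map_eta_apply]; rfl⟩

/-- `F σ` is bijective iff `η_K` factors through `σ`. -/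
theorem map_bijective_iff (η : EtaPt.FieldEndo.{u}) {K L : Type u} [Field K] [Field L] (σ : K →+* L) :
    Function.Bijective (η.map σ) ↔ ∃ φ : L →+* η.obj K, φ.comp σ = η.eta K := by
  constructor
  · intro h
    refine ⟨(RingEquiv.ofBijective _ h).symm.toRingHom.comp (η.eta L), RingHom.ext fun x => ?_⟩
    apply h.1
    simp only [RingHom.comp_apply]
    rw [map_eta_apply]
    exact (RingEquiv.ofBijective _ h).apply_symm_apply _
  · rintro ⟨φ, hφ⟩
    have h1 : Function.Bijective (η.map φ ∘ η.map σ) := by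
      have : ⇑(η.map φ) ∘ ⇑(η.map σ) = ⇑(η.map (η.eta K)) := by
        ext x
        simp only [Function.comp_apply, ← map_map_apply, hφ]
      rw [this]
      exact η.bijective_map_eta K
    have h2 : Function.Bijective (η.map φ) := ⟨(η.map φ).injective, h1.2.of_comp⟩
    exact (h2.of_comp_iff' _).mp h1

section ev

variable {A B : Type u} [CommRing A] [CommRing B]

/-- The point of `Spec A` given by a map to a field. -/
def pt {k : Type u} [Field k] (h : A →+* k) : PrimeSpectrum A :=
  ⟨RingHom.ker h, RingHom.ker_isPrime h⟩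

/-- The map from the residue field of a field valued point. -/
noncomputable def resLift {k : Type u} [Field k] (h : A →+* k) : (pt h).asIdeal.ResidueField →+* k :=
  Ideal.ResidueField.lift (pt h).asIdeal h le_rfl fun _ ha => Ne.isUnit fun h0 => ha h0

theorem resLift_algebraMap {k : Type u} [Field k] (h : A →+* k) (a : A) :
    resLift h (algebraMap A _ a) = h a :=
  Ideal.ResidueField.lift_algebraMap (I := (pt h).asIdeal) h _ _ a

theorem resLift_comp {k : Type u} [Field k] (h : A →+* k) :
    (resLift h).comp (algebraMap A _) = h := RingHom.ext (resLift_algebraMap h)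

/-- The component of an element of `N A` at a field valued point. -/
noncomputable def ev (η : EtaPt.FieldEndo.{u}) {k : Type u} [Field k] (h : A →+* k) :
    η.N A →+* η.obj k :=
  (η.map (resLift h)).comp (Pi.evalRingHom (fun p : PrimeSpectrum A => η.obj p.asIdeal.ResidueField) (pt h))

theorem ev_def (η : EtaPt.FieldEndo.{u}) {k : Type u} [Field k] (h : A →+* k) (x : η.N A) :
    ev η h x = η.map (resLift h) (x (pt h)) := rfl

theorem ker_of_factor {k : Type u} [Field k] (p : PrimeSpectrum A)
    (σ : p.asIdeal.ResidueField →+* k) :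
    RingHom.ker (σ.comp (algebraMap A _)) = p.asIdeal := by
  rw [RingHom.ker_comp_of_injective _ σ.injective, Ideal.ker_algebraMap_residueField]

theorem ev_eq (η : EtaPt.FieldEndo.{u}) {k : Type u} [Field k] (h : A →+* k) (p : PrimeSpectrum A)
    (σ : p.asIdeal.ResidueField →+* k) (hσ : σ.comp (algebraMap A _) = h) (x : η.N A) :
    ev η h x = η.map σ (x p) := by
  obtain rfl : p = pt h := PrimeSpectrum.ext (by
    change p.asIdeal = RingHom.ker h
    rw [← hσ, ker_of_factor])
  obtain rfl : σ = resLift h := Ideal.ResidueField.ringHom_ext (by rw [hσ, resLift_comp])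
  rfl

@[simp] theorem ev_algebraMap (η : EtaPt.FieldEndo.{u}) (p : PrimeSpectrum A) (x : η.N A) :
    ev η (algebraMap A p.asIdeal.ResidueField) x = x p := by
  rw [ev_eq η _ p (RingHom.id _) (RingHom.id_comp _), η.map_id, RingHom.id_apply]

theorem ev_comp (η : EtaPt.FieldEndo.{u}) {k l : Type u} [Field k] [Field l] (h : A →+* k)
    (σ : k →+* l) (x : η.N A) : ev η (σ.comp h) x = η.map σ (ev η h x) := by
  rw [ev_eq η _ (pt h) (σ.comp (resLift h)) (by rw [RingHom.comp_assoc, resLift_comp]),
    map_map_apply]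
  rfl

theorem ev_t (η : EtaPt.FieldEndo.{u}) {k : Type u} [Field k] (h : A →+* k) (a : A) :
    ev η h (η.t A a) = η.eta k (h a) := by
  rw [ev_def]
  exact (map_eta_apply η _ _).trans (by rw [resLift_algebraMap])

theorem Nmap_apply (η : EtaPt.FieldEndo.{u}) (f : A →+* B) (x : η.N A) (q : PrimeSpectrum B) :
    η.Nmap f x q = ev η ((algebraMap B q.asIdeal.ResidueField).comp f) x := by
  rw [ev_eq η _ (PrimeSpectrum.comap f q)
    (Ideal.ResidueField.map (PrimeSpectrum.comap f q).asIdeal q.asIdeal f rfl)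
    (RingHom.ext fun a =>
      Ideal.ResidueField.map_algebraMap (PrimeSpectrum.comap f q).asIdeal q.asIdeal f rfl a)]
  rfl

theorem ev_Nmap (η : EtaPt.FieldEndo.{u}) (f : A →+* B) {k : Type u} [Field k] (h : B →+* k)
    (x : η.N A) : ev η h (η.Nmap f x) = ev η (h.comp f) x := by
  rw [ev_def, Nmap_apply, ← ev_comp, ← RingHom.comp_assoc, resLift_comp]

theorem ev_eq_zero_iff (η : EtaPt.FieldEndo.{u}) {k : Type u} [Field k] (h : A →+* k) (x : η.N A) :
    ev η h x = 0 ↔ x (pt h) = 0 := by
  rw [ev_def, map_eq_zero]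

theorem ext_ev {x y : η.N A}
    (H : ∀ p : PrimeSpectrum A, ev η (algebraMap A p.asIdeal.ResidueField) x =
      ev η (algebraMap A p.asIdeal.ResidueField) y) : x = y :=
  funext fun p => by simpa using H p

theorem ev_congr_pt (η : EtaPt.FieldEndo.{u}) {k : Type u} [Field k] (h : A →+* k) {x y : η.N A}
    (e : x (pt h) = y (pt h)) : ev η h x = ev η h y := by rw [ev_def, ev_def, e]

theorem Nmap_id (η : EtaPt.FieldEndo.{u}) (x : η.N A) : η.Nmap (RingHom.id A) x = x :=
  ext_ev fun p => by rw [ev_Nmap, RingHom.comp_id]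

theorem Nmap_comp {C : Type u} [CommRing C] (η : EtaPt.FieldEndo.{u}) (f : A →+* B) (g : B →+* C)
    (x : η.N A) : η.Nmap (g.comp f) x = η.Nmap g (η.Nmap f x) :=
  ext_ev fun p => by rw [ev_Nmap, ev_Nmap, ev_Nmap, RingHom.comp_assoc]

/-- The valuative description of `M`. -/
theorem mem_M_iff (η : EtaPt.FieldEndo.{u}) (x : η.N A) :
    x ∈ η.M A ↔ ∀ (R : Type u) [CommRing R] [IsDomain R] [ValuationRing R], η.InV R →
      ∀ g : A →+* R, ∃ r : R, ∀ (k : Type u) [Field k] (h : R →+* k),
        ev η (h.comp g) x = η.eta k (h r) := by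
  constructor
  · intro hx R _ _ _ hR g
    obtain ⟨r, hr⟩ := hx R hR g
    refine ⟨r, fun k _ h => ?_⟩
    rw [← ev_t η h r, hr, ev_Nmap]
  · intro hx R _ _ _ hR g
    obtain ⟨r, hr⟩ := hx R hR g
    refine ⟨r, ext_ev fun p => ?_⟩
    rw [ev_t, ev_Nmap, hr]

theorem inV_valuationSubring (η : EtaPt.FieldEndo.{u}) {L : Type u} [Field L]
    (hL : Function.Bijective (η.eta L)) (O : ValuationSubring L) : η.InV O :=
  bijective_eta_of_ringEquiv η (FractionRing.algEquiv O L).symm.toRingEquiv hL

theorem exists_of_mem_M {x : η.N A} (hx : x ∈ η.M A) {L : Type u} [Field L]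
    (hL : Function.Bijective (η.eta L)) (O : ValuationSubring L) (g : A →+* O) :
    ∃ r : O, ∀ (k : Type u) [Field k] (h : O →+* k), ev η (h.comp g) x = η.eta k (h r) :=
  (mem_M_iff η x).mp hx O (inV_valuationSubring η hL O) g

theorem Nmap_mem_M (η : EtaPt.FieldEndo.{u}) (f : A →+* B) {x : η.N A} (hx : x ∈ η.M A) :
    η.Nmap f x ∈ η.M B := fun R _ _ _ hR g => by
  rw [← Nmap_comp]
  exact hx R hR (g.comp f)

/-- The map on `M` induced by a ring map. -/
noncomputable def Mmap (η : EtaPt.FieldEndo.{u}) (f : A →+* B) : η.M A →+* η.M B :=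
  ((η.Nmap f).comp (η.M A).subtype).codRestrict (η.M B) fun x => Nmap_mem_M η f x.2

theorem coe_Mmap (η : EtaPt.FieldEndo.{u}) (f : A →+* B) (x : η.M A) :
    ((Mmap η f x : η.M B) : η.N B) = η.Nmap f x := rfl

theorem coe_q (η : EtaPt.FieldEndo.{u}) (a : A) : ((η.q A a : η.M A) : η.N A) = η.t A a := rfl

/-- A valuation subring over a given prime. -/
theorem exists_valuationSubring_over {L : Type u} [Field L] (φ : A →+* L) (Q : PrimeSpectrum A)
    (hle : RingHom.ker φ ≤ Q.asIdeal) :
    ∃ (O : ValuationSubring L) (g : A →+* O), O.subtype.comp g = φ ∧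
      RingHom.ker ((residue O).comp g) = Q.asIdeal := by
  have hu : ∀ a : Q.asIdeal.primeCompl, IsUnit (φ a) :=
    fun a => Ne.isUnit fun h0 => a.2 (hle h0)
  set F : Localization.AtPrime Q.asIdeal →+* L := IsLocalization.lift hu
  obtain ⟨O, hO, hloc⟩ := IsLocalRing.exists_factor_valuationRing F
  let g : A →+* O := (F.codRestrict O.toSubring hO).comp (algebraMap A _)
  refine ⟨O, g, RingHom.ext fun a => IsLocalization.lift_eq hu a, Ideal.ext fun a => ?_⟩
  rw [RingHom.mem_ker, RingHom.comp_apply, residue_eq_zero_iff]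
  have h1 : (g a : O) ∈ maximalIdeal O ↔
      algebraMap A (Localization.AtPrime Q.asIdeal) a ∈ maximalIdeal _ := by
    constructor
    · intro h h'
      exact (mem_maximalIdeal _).mp h (h'.map (F.codRestrict O.toSubring hO))
    · intro h
      exact (mem_maximalIdeal _).mpr fun h' => (mem_maximalIdeal _).mp h (hloc.map_nonunit _ h')
  exact h1.trans (IsLocalization.AtPrime.to_map_mem_maximal_iff _ Q.asIdeal a)

/-- The generic component of an element of `M` transported to `F L`. -/
theorem ev_etaComp (η : EtaPt.FieldEndo.{u}) {L : Type u} [Field L] (h : A →+* L) (x : η.N A) :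
    ev η ((η.eta L).comp h) x = η.eta (η.obj L) (ev η h x) := by
  rw [ev_comp, eta_obj]

/-- A zero component propagates to all specializations. -/
theorem eq_zero_of_ev_eq_zero {x : η.N A} (hx : x ∈ η.M A) {L : Type u} [Field L] (h : A →+* L)
    (h0 : ev η h x = 0) (Q : PrimeSpectrum A) (hle : RingHom.ker h ≤ Q.asIdeal) : x Q = 0 := by
  have hker : RingHom.ker ((η.eta L).comp h) ≤ Q.asIdeal := by
    rwa [RingHom.ker_comp_of_injective _ (η.eta L).injective]
  obtain ⟨O, g, hg, hgQ⟩ := exists_valuationSubring_over ((η.eta L).comp h) Q hker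
  obtain ⟨r, hr⟩ := exists_of_mem_M hx (bijective_eta_obj η L) O g
  have h1 := hr _ O.subtype
  rw [hg, ev_etaComp, h0, map_zero, eq_comm, map_eq_zero] at h1
  have hr0 : r = 0 := Subtype.ext h1
  have h2 := hr _ (residue O)
  rw [hr0, map_zero, map_zero, ev_eq_zero_iff] at h2
  have : pt ((residue O).comp g) = Q := PrimeSpectrum.ext hgQ
  rwa [this] at h2

theorem eq_zero_of_le {x : η.N A} (hx : x ∈ η.M A) {P Q : PrimeSpectrum A} (hle : P.asIdeal ≤ Q.asIdeal)
    (h0 : x P = 0) : x Q = 0 :=
  eq_zero_of_ev_eq_zero hx (algebraMap A P.asIdeal.ResidueField) (by rw [ev_algebraMap, h0]) Q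
    (by rwa [Ideal.ker_algebraMap_residueField])

theorem eq_zero_of_minimal {x : η.N A} (hx : x ∈ η.M A)
    (h0 : ∀ P : PrimeSpectrum A, P.asIdeal ∈ minimalPrimes A → x P = 0) : x = 0 := by
  funext Q
  obtain ⟨P, hP, hPQ⟩ := Ideal.exists_minimalPrimes_le (I := (⊥ : Ideal A)) (J := Q.asIdeal) bot_le
  exact eq_zero_of_le hx (P := ⟨P, hP.1.1⟩) hPQ (h0 _ hP)

/-- An element of `F L` lying in every valuation subring containing the image is integral. -/
theorem isIntegralElem_of_forall_valuationSubring {L : Type u} [Field L] (φ : A →+* L) (y : L)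
    (H : ∀ O : ValuationSubring L, (∀ a, φ a ∈ O) → y ∈ O) : φ.IsIntegralElem y := by
  letI := φ.toAlgebra
  let C : Subring L := (integralClosure A L).toSubring
  haveI : IsIntegrallyClosedIn C L := Subring.isIntegrallyClosedIn_iff.mpr fun {z} hz => by
    have h1 : Algebra.IsIntegral A (integralClosure A L) := integralClosure.AlgebraIsIntegral
    exact (isIntegral_trans (R := A) (A := integralClosure A L) z hz : IsIntegral A z)
  have hy : y ∈ C := by
    rw [Subring.eq_iInf_of_isIntegrallyClosedIn (R := C)]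
    simp only [Subring.mem_iInf, Subtype.forall]
    exact fun O hO => H O fun a => hO (algebraMap_mem (integralClosure A L) a)
  exact hy

/-- Every component of an element of `M` is integral. -/
theorem isIntegralElem_ev {x : η.N A} (hx : x ∈ η.M A) {L : Type u} [Field L] (h : A →+* L) :
    ((η.eta L).comp h).IsIntegralElem (ev η h x) := by
  refine isIntegralElem_of_forall_valuationSubring _ _ fun O hO => ?_
  obtain ⟨r, hr⟩ := exists_of_mem_M hx (bijective_eta_obj η L) O
    (((η.eta L).comp h).codRestrict O.toSubring hO)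
  have h1 := hr _ O.subtype
  have e : O.subtype.comp (((η.eta L).comp h).codRestrict O.toSubring hO) = (η.eta L).comp h :=
    RingHom.ext fun _ => rfl
  rw [e, ev_etaComp] at h1
  have h2 : ev η h x = O.subtype r := (η.eta (η.obj L)).injective h1
  rw [h2]
  exact r.2

end ev

end Groth.Agent.EtaPtLib
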