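import Mathlib.AlgebraicGeometry.Morphisms.Flat
import Mathlib.AlgebraicGeometry.Morphisms.FinitePresentation
import Mathlib.AlgebraicGeometry.Properties
import Mathlib.RingTheory.LocalRing.ResidueField.Fiber
import Mathlib.RingTheory.Ideal.GoingDown
import Mathlib.RingTheory.Spectrum.Prime.Noetherian

/-!
Finiteness of irreducible components along flat morphisms locally of finite presentation.
-/

universe u

namespace Groth.Agent.EtaPtLib

open AlgebraicGeometry CategoryTheory TopologicalSpace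

theorem finite_components_of_generators {X : Type*} [TopologicalSpace X] {G : Set X} (hG : G.Finite)
    (h : ∀ y, ∃ g ∈ G, g ⤳ y) : (irreducibleComponents X).Finite := by
  refine (hG.image fun g => closure {g}).subset fun Z hZ => ?_
  have hcov : Z ⊆ ⋃₀ ((fun g => closure {g}) '' G) := fun y _ => by
    obtain ⟨g, hg, hgy⟩ := h y
    exact ⟨_, ⟨g, hg, rfl⟩, hgy.mem_closure⟩
  obtain ⟨_, ⟨g, hg, rfl⟩, hZg⟩ := isIrreducible_iff_sUnion_isClosed.mp hZ.1 (hG.image fun g => closure {g}).toFinset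
    (fun t ht => by obtain ⟨g, -, rfl⟩ := (hG.image _).mem_toFinset.mp ht; exact isClosed_closure)
    (by simpa [Set.Finite.coe_toFinset] using hcov)
    |>.imp fun t ht => (And.imp_left (hG.image _).mem_toFinset.mp ht)
  exact ⟨g, hg, (hZ.2 isIrreducible_singleton.closure hZg).antisymm hZg⟩

theorem exists_generators {X : Type*} [TopologicalSpace X] [QuasiSober X]
    (h : (irreducibleComponents X).Finite) : ∃ G : Set X, G.Finite ∧ ∀ y, ∃ g ∈ G, g ⤳ y := by
  haveI := h.to_subtype
  refine ⟨Set.range fun Z : irreducibleComponents X => Z.2.1.genericPoint, Set.finite_range _, fun y => ?_⟩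
  refine ⟨_, ⟨⟨irreducibleComponent y, irreducibleComponent_mem_irreducibleComponents y⟩, rfl⟩, ?_⟩
  exact (isIrreducible_irreducibleComponent.isGenericPoint_genericPoint isClosed_irreducibleComponent).specializes
    mem_irreducibleComponent

theorem finite_minimalPrimes_of_flat {A B : Type u} [CommRing A] [CommRing B] [Algebra A B]
    [Module.Flat A B] [Algebra.FiniteType A B] (hA : (minimalPrimes A).Finite) :
    (minimalPrimes B).Finite := by
  classical
  have hmin : ∀ Q ∈ minimalPrimes B, Q.comap (algebraMap A B) ∈ minimalPrimes A := by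
    intro Q hQ
    haveI : Q.IsPrime := hQ.1.1
    refine ⟨⟨Ideal.IsPrime.comap _, bot_le⟩, fun p' hp' hle => ?_⟩
    haveI : p'.IsPrime := hp'.1
    haveI : Q.LiesOver (Q.comap (algebraMap A B)) := ⟨rfl⟩
    obtain ⟨P, hPQ, hP, hPp⟩ := Q.exists_ideal_le_liesOver_of_le (p := p') (q := Q.comap (algebraMap A B)) hle
    rw [hPp.over]
    exact Ideal.comap_mono (hQ.2 ⟨hP, bot_le⟩ hPQ)
  refine ((hA.biUnion (t := fun p => {Q | Q ∈ minimalPrimes B ∧ Q.comap (algebraMap A B) = p})
    fun p hp => ?_)).subset fun Q hQ => Set.mem_iUnion₂.mpr ⟨_, hmin Q hQ, hQ, rfl⟩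
  haveI : p.IsPrime := hp.1.1
  let P : PrimeSpectrum A := ⟨p, inferInstance⟩
  let e := PrimeSpectrum.preimageOrderIsoFiber A B P
  haveI : IsNoetherianRing (P.asIdeal.Fiber B) :=
    Algebra.FiniteType.isNoetherianRing P.asIdeal.ResidueField _
  have hfin : {q : PrimeSpectrum (P.asIdeal.Fiber B) | IsMin q}.Finite := by
    refine (minimalPrimes.finite_of_isNoetherianRing (R := P.asIdeal.Fiber B)).preimage
      (f := PrimeSpectrum.asIdeal) (fun q _ q' _ h => PrimeSpectrum.ext h) |>.subset fun q hq => ?_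
    exact ⟨⟨q.2, bot_le⟩, fun I hI hle => hq (show (⟨I, hI.1⟩ : PrimeSpectrum _) ≤ q from hle)⟩
  refine ((hfin.image e.symm).image fun x => x.1.asIdeal).subset ?_
  rintro Q ⟨hQ, hQp⟩
  haveI : Q.IsPrime := hQ.1.1
  let x : PrimeSpectrum.comap (algebraMap A B) ⁻¹' {P} := ⟨⟨Q, inferInstance⟩, PrimeSpectrum.ext hQp⟩
  refine ⟨x, ⟨e x, fun q hq => ?_, e.symm_apply_apply x⟩, rfl⟩
  obtain ⟨y, rfl⟩ := e.surjective q
  exact e.monotone (show x.1.asIdeal ≤ y.1.asIdeal from hQ.2 ⟨y.1.2, bot_le⟩ (e.le_iff_le.mp hq))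

/-- A finite set of generators of an affine open from finiteness of its components. -/
theorem finite_minimalPrimes_of_components {X : Scheme.{u}} {U : X.Opens} (hU : IsAffineOpen U)
    (h : (irreducibleComponents (U : Type u)).Finite) : (minimalPrimes Γ(X, U)).Finite := by
  haveI : QuasiSober (U : Type u) := inferInstanceAs (QuasiSober U.toScheme)
  obtain ⟨G, hG, hgen⟩ := exists_generators h
  have hemb := hU.fromSpec.isOpenEmbedding
  refine (((hG.image (fun z => (z.1 : X))).preimage (f := hU.fromSpec) hemb.injective.injOn).image PrimeSpectrum.asIdeal).subset ?_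
  intro p hp
  let y : Spec Γ(X, U) := ⟨p, hp.1.1⟩
  have hy : hU.fromSpec y ∈ U := by
    have := Set.mem_range_self (f := hU.fromSpec) y
    rwa [hU.range_fromSpec] at this
  obtain ⟨g, hg, hgy⟩ := hgen ⟨_, hy⟩
  obtain ⟨g', hg'⟩ : g.1 ∈ Set.range hU.fromSpec := by rw [hU.range_fromSpec]; exact g.2
  have hspec : g' ⤳ y := hemb.isInducing.specializes_iff.mp (by rw [hg']; exact (subtype_specializes_iff _ _).mp hgy)
  have hle : g'.asIdeal ≤ p := (PrimeSpectrum.le_iff_specializes g' y).mpr hspec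
  exact ⟨g', ⟨g, hg, hg'.symm⟩, le_antisymm hle (hp.2 ⟨g'.2, bot_le⟩ hle)⟩

end Groth.Agent.EtaPtLib
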