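import Groth.Agent.EtaPtLib.Main
import Mathlib.RingTheory.Nilpotent.Lemmas

/-!
Relative rings `η.rel f`, idempotence of `M`, final property of `η.q A`.
-/

universe u

namespace Groth.Agent.EtaPtLib

open EtaPt

variable {η : EtaPt.FieldEndo.{u}} {A B C : Type u} [CommRing A] [CommRing B] [CommRing C]

theorem M_isReduced (η : EtaPt.FieldEndo.{u}) (A : Type u) [CommRing A] : IsReduced (η.M A) :=
  isReduced_of_injective (η.M A).subtype Subtype.val_injective

/-- A nilpotent-kernel map over `q` into `M A`. -/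
theorem of_factor (hA : (minimalPrimes A).Finite) (h : A →+* C) (ψ : C →+* η.M A)
    (hψ : ψ.comp h = η.q A) (hker : ∀ c, ψ c = 0 → IsNilpotent c) :
    h.IsIntegral ∧ Function.Bijective (PrimeSpectrum.comap h) ∧ RFac η h ∧
      Function.Bijective (η.Nmap h) := by
  have hi : h.IsIntegral := by
    intro c
    obtain ⟨p, hp, hp0⟩ := isIntegral_q η hA (ψ c)
    have : IsNilpotent (p.eval₂ h c) := hker _ (by rw [Polynomial.hom_eval₂, hψ]; exact hp0)
    obtain ⟨n, hn⟩ := this
    exact ⟨p ^ n, hp.pow n, by rw [Polynomial.eval₂_pow]; exact hn⟩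
  have hsurjψ : Function.Surjective (PrimeSpectrum.comap ψ) := by
    letI := ψ.toAlgebra
    haveI : Algebra.IsIntegral C (η.M A) :=
      ⟨RingHom.IsIntegral.tower_top (f := h) (g := ψ) (hψ ▸ isIntegral_q η hA)⟩
    intro P
    obtain ⟨Q, -, hQ, hQP⟩ := Ideal.exists_ideal_over_prime_of_isIntegral P.asIdeal (⊥ : Ideal (η.M A))
      (fun c hc => by
        obtain ⟨n, hn⟩ := hker c (Ideal.mem_bot.mp hc)
        exact P.2.mem_of_pow_mem n (hn ▸ zero_mem _))
    exact ⟨⟨Q, hQ⟩, PrimeSpectrum.ext hQP⟩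
  have hcq : PrimeSpectrum.comap h ∘ PrimeSpectrum.comap ψ = PrimeSpectrum.comap (η.q A) := by
    rw [← hψ]; exact (PrimeSpectrum.comap_comp h ψ).symm
  have hbij : Function.Bijective (PrimeSpectrum.comap h) := by
    refine ⟨fun a b hab => ?_, ?_⟩
    · obtain ⟨a, rfl⟩ := hsurjψ a
      obtain ⟨b, rfl⟩ := hsurjψ b
      have : PrimeSpectrum.comap (η.q A) a = PrimeSpectrum.comap (η.q A) b := by
        rw [← hcq]; exact hab
      rw [(comap_q_bijective hA).1 this]
    · intro P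
      obtain ⟨Q, rfl⟩ := (comap_q_bijective (η := η) hA).2 P
      exact ⟨PrimeSpectrum.comap ψ Q, congrFun hcq Q⟩
  have hfac : RFac η h := by
    intro Q
    let P := PrimeSpectrum.comap h Q
    let Θ : C →+* η.obj P.asIdeal.ResidueField := (evP η P).comp ψ
    have hΘ : RingHom.ker Θ = Q.asIdeal := by
      have h1 : PrimeSpectrum.comap h ⟨RingHom.ker Θ, RingHom.ker_isPrime _⟩ = P := by
        apply PrimeSpectrum.ext
        change (RingHom.ker Θ).comap h = P.asIdeal
        rw [RingHom.comap_ker, RingHom.comp_assoc, hψ, evP_comp_q, ker_of_factor]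
      exact congrArg PrimeSpectrum.asIdeal (hbij.1 h1)
    have hu : Q.asIdeal.primeCompl ≤
        (IsUnit.submonoid (η.obj P.asIdeal.ResidueField)).comap Θ :=
      fun z hz => Ne.isUnit fun h0 => hz (hΘ ▸ RingHom.mem_ker.mpr h0)
    refine ⟨Ideal.ResidueField.lift Q.asIdeal Θ hΘ.ge hu, ?_⟩
    refine Ideal.ResidueField.ringHom_ext (RingHom.ext fun a => ?_)
    refine ((congrArg (Ideal.ResidueField.lift Q.asIdeal Θ hΘ.ge hu)
      (Ideal.ResidueField.map_algebraMap P.asIdeal Q.asIdeal h rfl a)).trans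
      (Ideal.ResidueField.lift_algebraMap (I := Q.asIdeal) Θ hΘ.ge hu (h a))).trans ?_
    exact congrArg (evP η P) (RingHom.congr_fun hψ a)
  exact ⟨hi, hbij, hfac, (Nmap_bijective_iff η h).mpr ⟨hbij, hfac⟩⟩

/-- The map from the relative ring to `M A` for a map with surjective spectrum. -/
noncomputable def psi (η : EtaPt.FieldEndo.{u}) (f : A →+* B)
    (hs : Function.Surjective (PrimeSpectrum.comap f)) : η.rel f →+* η.M A :=
  ((RingEquiv.ofBijective ((η.Nmap f).comp (η.M A).subtype).rangeRestrict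
      ⟨fun _ _ e => Subtype.ext (Nmap_injective_of_surjective η hs (congrArg Subtype.val e)),
        RingHom.rangeRestrict_surjective _⟩).symm.toRingHom).comp
    (((η.t B).comp (η.rel f).subtype).codRestrict _ fun b => by
      obtain ⟨x, hx, he⟩ := b.2
      exact ⟨⟨x, hx⟩, he⟩)

theorem Nmap_psi (η : EtaPt.FieldEndo.{u}) (f : A →+* B)
    (hs : Function.Surjective (PrimeSpectrum.comap f)) (b : η.rel f) :
    η.Nmap f (psi η f hs b : η.N A) = η.t B b :=
  congrArg Subtype.val ((RingEquiv.ofBijective ((η.Nmap f).comp (η.M A).subtype).rangeRestrict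
    ⟨fun _ _ e => Subtype.ext (Nmap_injective_of_surjective η hs (congrArg Subtype.val e)),
      RingHom.rangeRestrict_surjective _⟩).apply_symm_apply _)

theorem qRel_properties (hA : (minimalPrimes A).Finite) (f : A →+* B)
    (hs : Function.Surjective (PrimeSpectrum.comap f)) :
    (η.qRel f).IsIntegral ∧ Function.Bijective (PrimeSpectrum.comap (η.qRel f)) ∧
      RFac η (η.qRel f) ∧ Function.Bijective (η.Nmap (η.qRel f)) := by
  refine of_factor hA (η.qRel f) (psi η f hs) (RingHom.ext fun a => Subtype.ext ?_) fun c hc => ?_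
  · apply Nmap_injective_of_surjective η hs
    rw [RingHom.comp_apply, Nmap_psi, coe_q, η.Nmap_t_apply]
    rfl
  · have h1 := Nmap_psi η f hs c
    rw [hc, ZeroMemClass.coe_zero, map_zero, eq_comm, t_apply_eq_zero_iff] at h1
    obtain ⟨n, hn⟩ := h1
    exact ⟨n, Subtype.ext (by rw [SubmonoidClass.coe_pow, hn]; rfl)⟩

theorem mem_rel_iff (η : EtaPt.FieldEndo.{u}) (f : A →+* B) (b : B) :
    b ∈ η.rel f ↔ ∃ x ∈ η.M A, η.Nmap f x = η.t B b := Iff.rfl

theorem qRel_bijective_iff (η : EtaPt.FieldEndo.{u}) (f : A →+* B) :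
    Function.Bijective (η.qRel f) ↔ Function.Injective f ∧ ∀ b ∈ η.rel f, ∃ a, f a = b := by
  refine ⟨fun h => ⟨fun a b e => h.1 (Subtype.ext e), fun b hb => ?_⟩, fun h => ⟨fun a b e => ?_, fun b => ?_⟩⟩
  · obtain ⟨a, ha⟩ := h.2 ⟨b, hb⟩
    exact ⟨a, congrArg Subtype.val ha⟩
  · exact h.1 (congrArg Subtype.val e)
  · obtain ⟨a, ha⟩ := h.2 b b.2
    exact ⟨a, Subtype.ext ha⟩

/-- Functoriality of `rel` for a commutative square. -/
theorem map_mem_rel' {A' B' : Type u} [CommRing A'] [CommRing B'] (η : EtaPt.FieldEndo.{u})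
    (j : A →+* B) (f : A →+* A') (g : B →+* B') (j' : A' →+* B') (hcomm : j'.comp f = g.comp j)
    {b : B} (hb : b ∈ η.rel j) : g b ∈ η.rel j' := by
  obtain ⟨x, hx, he⟩ := hb
  refine ⟨η.Nmap f x, Nmap_mem_M η f hx, ?_⟩
  rw [← Nmap_comp, hcomm, Nmap_comp, he, η.Nmap_t_apply]

/-- `Nmap` along an integral map with bijective `Nmap` is bijective on `M`. -/
theorem bijOn_Nmap_M (f : A →+* B) (hf : f.IsIntegral) (hN : Function.Bijective (η.Nmap f)) :
    Set.BijOn (η.Nmap f) (η.M A) (η.M B) := by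
  refine ⟨fun x hx => Nmap_mem_M η f hx, hN.1.injOn, fun y hy => ?_⟩
  obtain ⟨x, rfl⟩ := hN.2 y
  exact ⟨x, (mem_M_iff_of_isIntegral f hf ((Nmap_bijective_iff η f).mp hN).1.2 x).mpr hy, rfl⟩

theorem Mmap_bijective (f : A →+* B) (hf : f.IsIntegral) (hN : Function.Bijective (η.Nmap f)) :
    Function.Bijective (Mmap η f) := by
  refine ⟨fun x y e => Subtype.ext (hN.1 (congrArg Subtype.val e)), fun y => ?_⟩
  obtain ⟨x, hx, he⟩ := (bijOn_Nmap_M f hf hN).surjOn y.2
  exact ⟨⟨x, hx⟩, Subtype.ext he⟩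

/-- The final property of `q`. -/
theorem existsUnique_lift (hA : (minimalPrimes A).Finite) (g : A →+* B) (hg : g.IsIntegral)
    (hN : Function.Bijective (η.Nmap g)) : ∃! g' : B →+* η.M A, g'.comp g = η.q A := by
  let e := RingEquiv.ofBijective _ (Mmap_bijective g hg hN)
  refine ⟨e.symm.toRingHom.comp (η.q B), RingHom.ext fun a => e.injective ?_, fun g'' hg'' => ?_⟩
  · refine (e.apply_symm_apply _).trans (Subtype.ext ?_)
    change η.t B (g a) = η.Nmap g (η.t A a)
    rw [η.Nmap_t_apply]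
  · refine RingHom.ext fun b => e.injective (((?_ : e (g'' b) = η.q B b)).trans (e.apply_symm_apply _).symm)
    apply Subtype.ext
    change η.Nmap g (g'' b : η.N A) = η.t B b
    have hinj : Function.Injective (η.Nmap g'') := by
      intro y z he
      obtain ⟨y, rfl⟩ := hN.2 y
      obtain ⟨z, rfl⟩ := hN.2 z
      rw [← Nmap_comp, ← Nmap_comp, hg''] at he
      rw [(Nmap_q_bijective hA).1 he]
    apply hinj
    rw [← Nmap_comp, hg'', Nmap_q_eq_t hA, η.Nmap_t_apply]

theorem q_bijective_of_M (hA : (minimalPrimes A).Finite) : Function.Bijective (η.q (η.M A)) := by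
  haveI := M_isReduced η A
  have h := bijOn_Nmap_M (η.q A) (isIntegral_q η hA) (Nmap_q_bijective hA)
  refine ⟨fun x y e => t_injective η (congrArg Subtype.val e), fun y => ?_⟩
  obtain ⟨x, hx, he⟩ := h.surjOn y.2
  exact ⟨⟨x, hx⟩, Subtype.ext ((Nmap_q_eq_t hA ⟨x, hx⟩).symm.trans he)⟩

theorem bijective_of_integral (hA : (minimalPrimes A).Finite) [IsReduced B] (f : η.M A →+* B)
    (hf : f.IsIntegral) (hN : Function.Bijective (η.Nmap f)) : Function.Bijective f := by
  haveI := M_isReduced η A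
  refine ⟨fun x y e => t_injective η (hN.1 ?_), fun b => ?_⟩
  · rw [η.Nmap_t_apply, η.Nmap_t_apply, e]
  · obtain ⟨z, hz, he⟩ := (bijOn_Nmap_M f hf hN).surjOn (η.t_mem_M B b)
    obtain ⟨m, hm⟩ := (q_bijective_of_M hA).2 ⟨z, hz⟩
    refine ⟨m, t_injective η ?_⟩
    rw [← η.Nmap_t_apply, ← he, ← coe_q η m, hm]

theorem M_eq_top_of_field (η : EtaPt.FieldEndo.{u}) (K : Type u) [Field K] : η.M K = ⊤ := by
  refine eq_top_iff.mpr fun x _ => (mem_M_iff η x).mpr ?_
  intro R _ _ _ hR g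
  let ι := algebraMap R (FractionRing R)
  obtain ⟨r₀, hr₀⟩ := hR.2 (ev η (ι.comp g) x)
  obtain ⟨n, a, ha⟩ := η.exists_pow_mem_range_eta K (ev η (RingHom.id K) x)
  set q := ringExpChar K
  have hev : ∀ (k : Type u) [Field k] (h : K →+* k),
      ev η h x ^ q ^ n = η.eta k (h a) := by
    intro k _ h
    rw [show h = h.comp (RingHom.id K) from rfl, ev_comp, ← map_pow, ← ha, map_eta_apply]
    rfl
  haveI : ExpChar (FractionRing R) q := expChar_of_hom (ι.comp g)
  have hpow : r₀ ^ q ^ n = ι (g a) := by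
    apply (η.eta (FractionRing R)).injective
    rw [map_pow, hr₀, hev]
    rfl
  obtain ⟨r, hr⟩ : ∃ r, ι r = r₀ :=
    IsIntegrallyClosed.exists_algebraMap_eq_of_isIntegral_pow
      (pow_pos (expChar_pos (FractionRing R) q) n) (by rw [hpow]; exact isIntegral_algebraMap)
  refine ⟨r, fun k _ h => ?_⟩
  haveI : ExpChar (η.obj k) q := expChar_of_hom ((η.eta k).comp (h.comp g))
  apply pow_expChar_pow_injective q n
  simp only
  rw [hev, ← map_pow, ← map_pow]
  refine congrArg (fun z => η.eta k (h z)) (IsFractionRing.injective R (FractionRing R) ?_)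
  change ι (g a) = ι (r ^ q ^ n)
  rw [map_pow, hr, hpow]

theorem injOn_generic (A : Type u) [CommRing A] [IsDomain A] (η : EtaPt.FieldEndo.{u}) :
    Set.InjOn (fun x : η.N A => x ⟨⊥, Ideal.isPrime_bot⟩) (η.M A) := by
  intro x hx y hy he
  rw [← sub_eq_zero]
  funext Q
  exact eq_zero_of_le (P := ⟨⊥, Ideal.isPrime_bot⟩) (sub_mem hx hy) bot_le (sub_eq_zero.mpr he)

theorem q_bijective_of_isIntegrallyClosed (A : Type u) [CommRing A] [IsDomain A] [IsIntegrallyClosed A]
    (hA : η.InV A) : Function.Bijective (η.q A) := by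
  let ι := algebraMap A (FractionRing A)
  have hι : Function.Injective ι := IsFractionRing.injective A _
  refine ⟨fun a b e => ?_, fun x => ?_⟩
  · exact t_injective η (congrArg Subtype.val e)
  obtain ⟨a₀, ha₀⟩ := hA.2 (ev η ι (x : η.N A))
  obtain ⟨p, hp, hp0⟩ := isIntegralElem_ev x.2 ι
  have hint : IsIntegral A a₀ := ⟨p, hp, (η.eta _).injective (by
    rw [Polynomial.hom_eval₂, ha₀, map_zero]; exact hp0)⟩
  obtain ⟨a, ha⟩ := IsIntegrallyClosed.isIntegral_iff.mp hint
  refine ⟨a, Subtype.ext ?_⟩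
  have hz : ev η ι (η.t A a - (x : η.N A)) = 0 := by
    rw [map_sub, ev_t, sub_eq_zero, ← ha₀, ha]
  rw [← sub_eq_zero]
  funext Q
  exact eq_zero_of_ev_eq_zero (sub_mem (η.t_mem_M A a) x.2) ι hz Q
    (((RingHom.injective_iff_ker_eq_bot ι).mp hι).le.trans bot_le)

end Groth.Agent.EtaPtLib
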