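import Groth.Agent.EtaPtLib.Rel
import Groth.Agent.S13824
import Mathlib.RingTheory.Ideal.MinimalPrime.Localization
import Mathlib.RingTheory.Localization.Integral

/-!
Localization at an element for the pointwise construction.
-/

universe u

namespace Groth.Agent.EtaPtLib

open EtaPt

variable {η : EtaPt.FieldEndo.{u}} {A B : Type u} [CommRing A] [CommRing B]

theorem finite_minimalPrimes_away (hA : (minimalPrimes A).Finite) (f : A) :
    (minimalPrimes (Localization.Away f)).Finite := by
  have h := IsLocalization.minimalPrimes_map (Submonoid.powers f) (Localization.Away f) (⊥ : Ideal A)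
  rw [Ideal.map_bot] at h
  show (⊥ : Ideal (Localization.Away f)).minimalPrimes.Finite
  rw [h]
  refine hA.preimage fun p _ q _ e => ?_
  rw [← IsLocalization.map_under (Submonoid.powers f) (Localization.Away f) p, e,
    IsLocalization.map_under (Submonoid.powers f) (Localization.Away f) q]

theorem M_away_surjective (hA : (minimalPrimes A).Finite) (f : A)
    (y : η.N (Localization.Away f)) (hy : y ∈ η.M (Localization.Away f)) :
    ∃ x ∈ η.M A, ∃ n : ℕ, y * η.t (Localization.Away f) (algebraMap A (Localization.Away f) f) ^ n =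
      η.Nmap (algebraMap A (Localization.Away f)) x := by
  classical
  let Af := Localization.Away f
  let ι := algebraMap A Af
  letI : Algebra Af (η.M Af) := (η.q Af).toAlgebra
  letI : Algebra A (η.M Af) := ((η.q Af).comp ι).toAlgebra
  haveI : IsScalarTower A Af (η.M Af) := IsScalarTower.of_algebraMap_eq fun _ => rfl
  have hint : IsIntegral Af (⟨y, hy⟩ : η.M Af) := isIntegral_q η (finite_minimalPrimes_away hA f) _
  obtain ⟨⟨_, N, rfl⟩, hz⟩ := hint.exists_multiple_integral_of_isLocalization (Submonoid.powers f)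
  obtain ⟨p, hp, hp0⟩ := hz
  set z : η.N Af := η.t Af (ι f) ^ N * y with hz
  have hzM : z ∈ η.M Af := mul_mem (pow_mem (η.t_mem_M _ _) _) hy
  have hzp : Polynomial.eval₂ ((η.t Af).comp ι) z p = 0 := by
    have h1 := congrArg (η.M Af).subtype hp0
    rw [Polynomial.hom_eval₂, map_zero] at h1
    convert h1 using 2
    · rfl
    · rw [hz, Submonoid.smul_def, Algebra.smul_def, map_mul, ← map_pow]
      change η.t Af (ι f ^ N) * y = η.t Af (ι (f ^ N)) * y
      rw [map_pow ι]
  obtain ⟨w, n, hw⟩ := (Groth.Agent.S13824.result η A f).1 z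
  refine ⟨w * η.t A f, (mem_M_iff η _).mpr ?_, N + n + 1, ?_⟩
  swap
  · rw [map_mul, ← hw, η.Nmap_t_apply, hz, pow_succ, pow_add]
    ring
  intro R _ _ _ hR g
  let L := FractionRing R
  let ιR := algebraMap R L
  have hιR : Function.Injective ιR := IsFractionRing.injective R L
  by_cases hgf : g f = 0
  · refine ⟨0, fun k _ h => ?_⟩
    rw [map_mul, ev_t, RingHom.comp_apply, hgf]
    simp
  have hu : IsUnit (ιR (g f)) := Ne.isUnit fun h0 => hgf (hιR (h0.trans (map_zero ιR).symm))
  let Rf := Localization.Away (g f)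
  let F : Rf →+* L := IsLocalization.Away.lift (g f) hu
  have hFι : ∀ r, F (algebraMap R Rf r) = ιR r := fun r => IsLocalization.Away.lift_eq (g f) hu r
  have hFinj : Function.Injective F := by
    rw [injective_iff_map_eq_zero]
    intro a ha
    obtain ⟨r, ⟨_, m, rfl⟩, rfl⟩ := IsLocalization.exists_mk'_eq (Submonoid.powers (g f)) a
    rw [IsLocalization.mk'_eq_zero_iff]
    have : F (algebraMap R Rf r) = 0 := by
      rw [← IsLocalization.mk'_spec Rf r (⟨_, m, rfl⟩ : Submonoid.powers (g f)), map_mul, ha, zero_mul]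
    exact ⟨1, by rw [Submonoid.coe_one, one_mul]; exact hιR (((hFι r).symm.trans this).trans (map_zero ιR).symm)⟩
  let O : ValuationSubring L := ValuationSubring.ofSubring F.range fun v => by
    rcases ValuationRing.isInteger_or_isInteger R v with ⟨r, hr⟩ | ⟨r, hr⟩
    · exact Or.inl ⟨algebraMap R Rf r, (hFι r).trans hr⟩
    · exact Or.inr ⟨algebraMap R Rf r, (hFι r).trans hr⟩
  let e : Rf ≃+* O := RingEquiv.ofBijective (F.rangeRestrict : Rf →+* F.range)
    ⟨fun a b h => hFinj (congrArg Subtype.val h), F.rangeRestrict_surjective⟩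
  let G : Af →+* O := e.toRingHom.comp
    (IsLocalization.Away.lift (f) (g := (algebraMap R Rf).comp g)
      (IsLocalization.Away.algebraMap_isUnit (g f)))
  have hG : G.comp ι = e.toRingHom.comp ((algebraMap R Rf).comp g) := RingHom.ext fun a =>
    congrArg e (IsLocalization.Away.lift_eq _ _ a)
  obtain ⟨r', hr'⟩ := exists_of_mem_M hzM hR O G
  -- the value is integral over `R`
  have hsub : (O.subtype.comp G).comp ι = ιR.comp g := by
    rw [RingHom.comp_assoc, hG]
    exact RingHom.ext fun a => hFι (g a)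
  obtain ⟨r, hr⟩ : ∃ r, ιR r = (r' : L) := by
    refine IsIntegrallyClosed.isIntegral_iff.mp ⟨p.map g, hp.map g, (η.eta L).injective ?_⟩
    rw [Polynomial.eval₂_map, map_zero, Polynomial.hom_eval₂]
    have h1 := congrArg (ev η (O.subtype.comp G)) hzp
    rw [Polynomial.hom_eval₂, map_zero, hr' _ O.subtype] at h1
    convert h1 using 2
    · refine RingHom.ext fun a => ?_
      rw [RingHom.comp_apply, RingHom.comp_apply, RingHom.comp_apply, RingHom.comp_apply, ev_t]
      exact congrArg (η.eta L) (RingHom.congr_fun hsub a).symm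
    · rfl
  have hr'' : e (algebraMap R Rf r) = r' := Subtype.ext ((hFι r).trans hr)
  refine ⟨r * g f ^ (n + 1), fun k _ h => ?_⟩
  by_cases hk : h (g f) = 0
  · rw [map_mul, ev_t, RingHom.comp_apply, hk, map_zero, mul_zero, map_mul, map_pow, hk,
      zero_pow (Nat.succ_ne_zero n), mul_zero, map_zero]
  let h' : O →+* k := (IsLocalization.Away.lift (g f) (g := h) (Ne.isUnit hk)).comp e.symm.toRingHom
  have hh' : ∀ s : R, h' (e (algebraMap R Rf s)) = h s := fun s => by
    simp only [h', RingHom.comp_apply]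
    rw [show e.symm.toRingHom (e (algebraMap R Rf s)) = algebraMap R Rf s from e.symm_apply_apply _]
    exact IsLocalization.Away.lift_eq (g f) _ s
  have hh'ι : (h'.comp G).comp ι = h.comp g := RingHom.ext fun a => by
    rw [RingHom.comp_assoc, hG]
    exact hh' (g a)
  rw [map_mul, ev_t, RingHom.comp_apply, ← hh'ι, ← ev_Nmap, ← hw, map_mul, map_pow, ev_t, hr' k h',
    ← hr'', hh', show (h'.comp G) (ι f) = h (g f) from RingHom.congr_fun hh'ι f, map_mul, map_pow,
    map_mul, map_pow, pow_succ]
  ring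

theorem rel_away (hA : (minimalPrimes A).Finite) (φ : A →+* B)
    (f : A) :
    (η.rel φ).map (algebraMap B (Localization.Away (φ f))) ≤ η.rel (Localization.awayMap φ f) ∧
      ∀ y ∈ η.rel (Localization.awayMap φ f), ∃ x ∈ η.rel φ, ∃ n : ℕ,
        y * algebraMap B (Localization.Away (φ f)) (φ f) ^ n = algebraMap B (Localization.Away (φ f)) x := by
  let Af := Localization.Away f
  let Bf := Localization.Away (φ f)
  let ι := algebraMap A Af
  let j := algebraMap B Bf
  have hcomm : (Localization.awayMap φ f).comp ι = j.comp φ :=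
    IsLocalization.map_comp _
  refine ⟨?_, fun y hy => ?_⟩
  · rintro _ ⟨b, hb, rfl⟩
    exact map_mem_rel' η φ ι j _ hcomm hb
  obtain ⟨z, hzM, hz⟩ := hy
  obtain ⟨w, hwM, n, hw⟩ := M_away_surjective hA f z hzM
  obtain ⟨⟨x0, ⟨_, k, rfl⟩⟩, hx0⟩ := IsLocalization.surj (Submonoid.powers (φ f)) y
  simp only at hx0
  have hdiff : η.Nmap j (η.t B (x0 * φ f ^ n) - η.Nmap φ (w * η.t A f ^ k)) = 0 := by
    simp only [map_sub, map_mul, map_pow, η.Nmap_t_apply]
    rw [← Nmap_comp, ← hcomm, Nmap_comp, ← hw, map_mul, map_pow, η.Nmap_t_apply, hz]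
    rw [show (Localization.awayMap φ f) (ι f) = j (φ f) from RingHom.congr_fun hcomm f]
    rw [show j x0 = y * j (φ f) ^ k by rw [← map_pow]; exact hx0.symm, map_mul, map_pow]
    ring
  obtain ⟨m, hm⟩ := (Groth.Agent.S13824.result η B (φ f)).2 _ hdiff
  refine ⟨x0 * φ f ^ (n + m), ⟨w * η.t A f ^ (k + m), mul_mem hwM (pow_mem (η.t_mem_M _ _) _), ?_⟩,
    k + (n + m), ?_⟩
  · rw [mul_sub, sub_eq_zero] at hm
    rw [pow_add, pow_add, ← mul_assoc, ← mul_assoc, map_mul (η.Nmap φ), map_mul (η.t B) _ (φ f ^ m),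
      map_pow (η.Nmap φ), η.Nmap_t_apply, map_pow (η.t B), mul_comm (η.t B (x0 * φ f ^ n)), hm,
      mul_comm]
  · rw [pow_add, ← mul_assoc, map_mul, map_pow _ (φ f) (n + m)]
    exact congrArg (· * _) ((congrArg (y * ·) (map_pow j (φ f) k).symm).trans hx0)

end Groth.Agent.EtaPtLib
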