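import Groth.Agent.EtaPtLib.Basic
import Mathlib.RingTheory.Ideal.GoingUp
import Mathlib.RingTheory.Bezout
import Mathlib.Algebra.GCDMonoid.IntegrallyClosed
import Mathlib.RingTheory.PrincipalIdealDomain
import Mathlib.RingTheory.Valuation.ValuationRing
import Mathlib.RingTheory.Flat.Basic
import Mathlib.RingTheory.TensorProduct.Nontrivial

/-!
The structure of `η.q A` for finitely many minimal primes, lifting along integral maps, and the
relative rings `η.rel f`.
-/

universe u

namespace Groth.Agent.EtaPtLib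

open EtaPt IsLocalRing

variable {η : EtaPt.FieldEndo.{u}} {A B : Type u} [CommRing A] [CommRing B]

/-- `η` factors through every residue field extension of `f`. -/
def RFac (η : EtaPt.FieldEndo.{u}) (f : A →+* B) : Prop :=
  ∀ Q : PrimeSpectrum B,
    ∃ φ : Q.asIdeal.ResidueField →+* η.obj (PrimeSpectrum.comap f Q).asIdeal.ResidueField,
      φ.comp (Ideal.ResidueField.map (PrimeSpectrum.comap f Q).asIdeal Q.asIdeal f rfl) =
        η.eta (PrimeSpectrum.comap f Q).asIdeal.ResidueField

/-- `Nmap` at a point in terms of the residue field map. -/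
theorem Nmap_apply' (η : EtaPt.FieldEndo.{u}) (f : A →+* B) (x : η.N A) (q : PrimeSpectrum B) :
    η.Nmap f x q = η.map (Ideal.ResidueField.map (PrimeSpectrum.comap f q).asIdeal q.asIdeal f rfl)
      (x (PrimeSpectrum.comap f q)) := rfl

theorem Nmap_bijective_iff (η : EtaPt.FieldEndo.{u}) (f : A →+* B) :
    Function.Bijective (η.Nmap f) ↔ Function.Bijective (PrimeSpectrum.comap f) ∧ RFac η f := by
  classical
  constructor
  · intro h
    have hinj : Function.Injective (PrimeSpectrum.comap f) := by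
      intro q₁ q₂ he
      by_contra hne
      obtain ⟨x, hx⟩ := h.2 (Pi.single q₁ 1)
      have h1 : x (PrimeSpectrum.comap f q₁) ≠ 0 := fun h0 => by
        have := congrFun hx q₁
        rw [Nmap_apply', h0, map_zero, Pi.single_eq_same] at this
        exact zero_ne_one this
      have h2 : x (PrimeSpectrum.comap f q₂) = 0 := by
        have := congrFun hx q₂
        rwa [Nmap_apply', Pi.single_eq_of_ne (Ne.symm hne), map_eq_zero] at this
      rw [← he] at h2
      exact h1 h2
    refine ⟨⟨hinj, fun P => ?_⟩, fun Q => ?_⟩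
    · by_contra hP
      push Not at hP
      have : (Pi.single P 1 : η.N A) = 0 := h.1 (funext fun q => by
        rw [map_zero, Nmap_apply', Pi.single_eq_of_ne (hP q), map_zero]
        rfl)
      have := congrFun this P
      rw [Pi.single_eq_same] at this
      exact one_ne_zero this
    · refine (map_bijective_iff η _).mp ⟨(η.map _).injective, fun y => ?_⟩
      obtain ⟨x, hx⟩ := h.2 (Pi.single Q y)
      refine ⟨x (PrimeSpectrum.comap f Q), ?_⟩
      rw [← Nmap_apply', hx, Pi.single_eq_same]
  · rintro ⟨hc, hr⟩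
    have hb : ∀ q : PrimeSpectrum B, Function.Bijective
        (η.map (Ideal.ResidueField.map (PrimeSpectrum.comap f q).asIdeal q.asIdeal f rfl)) :=
      fun q => (map_bijective_iff η _).mpr (hr q)
    refine ⟨fun x y he => funext fun P => ?_, fun y => ?_⟩
    · obtain ⟨q, rfl⟩ := hc.2 P
      exact (hb q).1 (congrFun he q)
    · have key : ∀ P : PrimeSpectrum A, ∃ v : η.obj P.asIdeal.ResidueField,
          ∀ (q : PrimeSpectrum B) (σ : P.asIdeal.ResidueField →+* q.asIdeal.ResidueField),
            σ.comp (algebraMap A _) = (algebraMap B _).comp f → η.map σ v = y q := by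
        intro P
        obtain ⟨q₀, rfl⟩ := hc.2 P
        obtain ⟨v, hv⟩ := (hb q₀).2 (y q₀)
        refine ⟨v, fun q σ hσ => ?_⟩
        have : PrimeSpectrum.comap f q₀ = PrimeSpectrum.comap f q := PrimeSpectrum.ext (by
          rw [← ker_of_factor _ σ, hσ, ← RingHom.comap_ker, Ideal.ker_algebraMap_residueField]
          rfl)
        obtain rfl := hc.1 this
        obtain rfl : σ = Ideal.ResidueField.map (PrimeSpectrum.comap f q₀).asIdeal q₀.asIdeal f rfl :=
          Ideal.ResidueField.ringHom_ext (hσ.trans (RingHom.ext fun a =>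
            (Ideal.ResidueField.map_algebraMap (PrimeSpectrum.comap f q₀).asIdeal q₀.asIdeal f rfl a).symm))
        exact hv
      choose x hx using key
      exact ⟨x, funext fun q => hx _ q _ (RingHom.ext fun a =>
        Ideal.ResidueField.map_algebraMap (PrimeSpectrum.comap f q).asIdeal q.asIdeal f rfl a)⟩

theorem Nmap_injective_of_surjective (η : EtaPt.FieldEndo.{u}) {f : A →+* B}
    (hs : Function.Surjective (PrimeSpectrum.comap f)) : Function.Injective (η.Nmap f) := by
  intro x y he
  funext P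
  obtain ⟨q, rfl⟩ := hs P
  exact (η.map _).injective (congrFun he q)

theorem t_apply_eq_zero_iff (η : EtaPt.FieldEndo.{u}) (a : A) : η.t A a = 0 ↔ IsNilpotent a := by
  rw [← mem_nilradical, nilradical_eq_sInf, Ideal.mem_sInf, funext_iff]
  constructor
  · intro h J hJ
    have hJ' : J.IsPrime := hJ
    have h1 : η.eta _ (algebraMap A (⟨J, hJ'⟩ : PrimeSpectrum A).asIdeal.ResidueField a) = 0 :=
      h ⟨J, hJ'⟩
    rwa [map_eq_zero, Ideal.algebraMap_residueField_eq_zero] at h1
  · intro h p
    change η.eta _ (algebraMap A p.asIdeal.ResidueField a) = 0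
    rw [map_eq_zero, Ideal.algebraMap_residueField_eq_zero]
    exact h p.2

theorem t_injective (η : EtaPt.FieldEndo.{u}) [IsReduced A] : Function.Injective (η.t A) :=
  (injective_iff_map_eq_zero _).mpr fun a ha => ((t_apply_eq_zero_iff η a).mp ha).eq_zero

theorem q_eq_zero_iff (η : EtaPt.FieldEndo.{u}) (a : A) : η.q A a = 0 ↔ IsNilpotent a := by
  rw [← t_apply_eq_zero_iff η, Subtype.ext_iff]
  rfl

/-- The component of an element of `M` at a point. -/
noncomputable def evP (η : EtaPt.FieldEndo.{u}) (P : PrimeSpectrum A) :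
    η.M A →+* η.obj P.asIdeal.ResidueField :=
  (Pi.evalRingHom (fun p : PrimeSpectrum A => η.obj p.asIdeal.ResidueField) P).comp (η.M A).subtype

theorem evP_apply (η : EtaPt.FieldEndo.{u}) (P : PrimeSpectrum A) (x : η.M A) :
    evP η P x = (x : η.N A) P := rfl

theorem evP_comp_q (η : EtaPt.FieldEndo.{u}) (P : PrimeSpectrum A) :
    (evP η P).comp (η.q A) = (η.eta P.asIdeal.ResidueField).comp (algebraMap A _) := rfl

theorem isIntegral_q (η : EtaPt.FieldEndo.{u}) (hA : (minimalPrimes A).Finite) :
    (η.q A).IsIntegral := by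
  classical
  intro x
  haveI : ∀ P : minimalPrimes A, (P : Ideal A).IsPrime := fun P => P.2.1.1
  haveI := hA.fintype
  let pp : minimalPrimes A → PrimeSpectrum A := fun P => ⟨P, inferInstance⟩
  have key : ∀ P : minimalPrimes A, ∃ p : Polynomial A, p.Monic ∧
      p.eval₂ ((evP η (pp P)).comp (η.q A)) (evP η (pp P) x) = 0 := by
    intro P
    have h := isIntegralElem_ev x.2 (algebraMap A (pp P).asIdeal.ResidueField)
    rw [ev_algebraMap] at h
    exact h
  choose p hp hp0 using key
  refine ⟨∏ P : minimalPrimes A, p P, Polynomial.monic_prod_of_monic _ _ fun P _ => hp P, ?_⟩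
  apply Subtype.ext
  apply eq_zero_of_minimal (Subtype.mem _)
  intro P hP
  have h1 : evP η (pp ⟨P.asIdeal, hP⟩) (Polynomial.eval₂ (η.q A) x (∏ P : minimalPrimes A, p P)) = 0 := by
    rw [Polynomial.hom_eval₂, Polynomial.eval₂_finsetProd]
    exact Finset.prod_eq_zero (Finset.mem_univ (⟨P.asIdeal, hP⟩ : minimalPrimes A)) (hp0 _)
  exact h1

/-- A prime of `M A` is the kernel of the component at its image. -/
theorem mem_iff_evP_eq_zero (hA : (minimalPrimes A).Finite) (Q : PrimeSpectrum (η.M A)) (x : η.M A) :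
    x ∈ Q.asIdeal ↔ evP η (PrimeSpectrum.comap (η.q A) Q) x = 0 := by
  classical
  -- some component kernel at a minimal prime is contained in `Q`
  haveI : ∀ P : minimalPrimes A, (P : Ideal A).IsPrime := fun P => P.2.1.1
  haveI := hA.fintype
  let pp : minimalPrimes A → PrimeSpectrum A := fun P => ⟨P, inferInstance⟩
  have hinf : (Finset.univ.inf fun P : minimalPrimes A => RingHom.ker (evP η (pp P))) ≤ Q.asIdeal := by
    intro z hz
    rw [Submodule.mem_finsetInf] at hz
    have : z = 0 := Subtype.ext (eq_zero_of_minimal z.2 fun P hP =>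
      RingHom.mem_ker.mp (hz ⟨P.asIdeal, hP⟩ (Finset.mem_univ _)))
    rw [this]
    exact zero_mem _
  obtain ⟨P, -, hP⟩ := Q.2.inf_le'.mp hinf
  obtain ⟨O, g, hg, hgQ⟩ := exists_valuationSubring_over (evP η (pp P)) Q hP
  obtain ⟨r, hr⟩ := exists_of_mem_M x.2 (bijective_eta_obj η _) O (g.comp (η.q A))
  have h1 := hr _ O.subtype
  rw [← RingHom.comp_assoc, hg, evP_comp_q, ev_etaComp, ev_algebraMap, ← evP_apply, ← hg] at h1
  have hgx : g x = r := Subtype.ext ((η.eta _).injective h1)
  have h2 := hr _ (residue O)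
  rw [← RingHom.comp_assoc] at h2
  have hpt : pt (((residue O).comp g).comp (η.q A)) = PrimeSpectrum.comap (η.q A) Q := by
    apply PrimeSpectrum.ext
    change RingHom.ker (((residue O).comp g).comp (η.q A)) = Q.asIdeal.comap (η.q A)
    rw [← RingHom.comap_ker, hgQ]
  rw [← hpt, evP_apply, ← ev_eq_zero_iff, h2, map_eq_zero, ← hgx, ← hgQ, RingHom.mem_ker]
  rfl

theorem ker_evP (hA : (minimalPrimes A).Finite) (Q : PrimeSpectrum (η.M A)) :
    RingHom.ker (evP η (PrimeSpectrum.comap (η.q A) Q)) = Q.asIdeal :=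
  Ideal.ext fun x => RingHom.mem_ker.trans (mem_iff_evP_eq_zero hA Q x).symm

theorem comap_q_bijective (hA : (minimalPrimes A).Finite) :
    Function.Bijective (PrimeSpectrum.comap (η.q A)) := by
  refine ⟨fun Q₁ Q₂ h => PrimeSpectrum.ext ?_, fun P => ?_⟩
  · rw [← ker_evP hA Q₁, h, ker_evP hA Q₂]
  · refine ⟨⟨RingHom.ker (evP η P), RingHom.ker_isPrime _⟩, PrimeSpectrum.ext ?_⟩
    change (RingHom.ker (evP η P)).comap (η.q A) = P.asIdeal
    rw [RingHom.comap_ker, evP_comp_q, ker_of_factor]

/-- The map from the residue field at a prime of `M A` to `F` of the residue field of its image. -/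
noncomputable def qFac (hA : (minimalPrimes A).Finite) (Q : PrimeSpectrum (η.M A)) :
    Q.asIdeal.ResidueField →+* η.obj (PrimeSpectrum.comap (η.q A) Q).asIdeal.ResidueField :=
  Ideal.ResidueField.lift Q.asIdeal (evP η (PrimeSpectrum.comap (η.q A) Q)) (ker_evP hA Q).ge
    fun _ hz => Ne.isUnit fun h0 => hz ((mem_iff_evP_eq_zero hA Q _).mpr h0)

theorem qFac_algebraMap (hA : (minimalPrimes A).Finite) (Q : PrimeSpectrum (η.M A)) (x : η.M A) :
    qFac hA Q (algebraMap _ _ x) = evP η (PrimeSpectrum.comap (η.q A) Q) x :=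
  Ideal.ResidueField.lift_algebraMap (I := Q.asIdeal) _ _ _ x

theorem qFac_comp (hA : (minimalPrimes A).Finite) (Q : PrimeSpectrum (η.M A)) :
    (qFac hA Q).comp (Ideal.ResidueField.map (PrimeSpectrum.comap (η.q A) Q).asIdeal Q.asIdeal (η.q A) rfl) =
      η.eta (PrimeSpectrum.comap (η.q A) Q).asIdeal.ResidueField :=
  Ideal.ResidueField.ringHom_ext (RingHom.ext fun a =>
    ((congrArg (qFac hA Q) (Ideal.ResidueField.map_algebraMap (PrimeSpectrum.comap (η.q A) Q).asIdeal
      Q.asIdeal (η.q A) rfl a)).trans (qFac_algebraMap hA Q _)))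

theorem rfac_q (hA : (minimalPrimes A).Finite) : RFac η (η.q A) :=
  fun Q => ⟨qFac hA Q, qFac_comp hA Q⟩

theorem Nmap_q_bijective (hA : (minimalPrimes A).Finite) : Function.Bijective (η.Nmap (η.q A)) :=
  (Nmap_bijective_iff η _).mpr ⟨comap_q_bijective hA, rfac_q hA⟩

/-- `Nmap q` agrees with `t` on `M A`. -/
theorem Nmap_q_eq_t (hA : (minimalPrimes A).Finite) (x : η.M A) :
    η.Nmap (η.q A) (x : η.N A) = η.t (η.M A) x := by
  funext Q
  apply (η.map (qFac hA Q)).injective
  rw [Nmap_apply', ← map_map_apply, qFac_comp, ← eta_obj]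
  change _ = η.map (qFac hA Q) (η.eta _ (algebraMap (η.M A) _ x))
  rw [map_eta_apply, qFac_algebraMap]
  rfl

/-- Maps to valuation rings in `V` factor through integral maps with bijective `Nmap`. -/
theorem exists_factor (f : A →+* B) (hf : f.IsIntegral) (hN : Function.Bijective (η.Nmap f))
    (R : Type u) [CommRing R] [IsDomain R] [ValuationRing R] (hR : η.InV R) (g : A →+* R) :
    ∃ g' : B →+* R, g'.comp f = g := by
  obtain ⟨hc, hr⟩ := (Nmap_bijective_iff η f).mp hN
  let ι := algebraMap R (FractionRing R)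
  have hι : Function.Injective ι := IsFractionRing.injective R _
  obtain ⟨Q, hQ⟩ := hc.2 (pt (ι.comp g))
  obtain ⟨φ, hφ⟩ := hr Q
  let σ : (PrimeSpectrum.comap f Q).asIdeal.ResidueField →+* FractionRing R :=
    Ideal.ResidueField.lift _ (ι.comp g) (le_of_eq (by rw [hQ]; rfl))
      (fun a ha => Ne.isUnit fun h0 => ha (by rw [hQ]; exact h0))
  have hσ : ∀ a, σ (algebraMap A _ a) = ι (g a) := fun a =>
    Ideal.ResidueField.lift_algebraMap (I := (PrimeSpectrum.comap f Q).asIdeal) _ _ _ a
  let e := RingEquiv.ofBijective _ hR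
  let h : B →+* FractionRing R :=
    e.symm.toRingHom.comp (((η.map σ).comp φ).comp (algebraMap B Q.asIdeal.ResidueField))
  have hh : ∀ a, h (f a) = ι (g a) := by
    intro a
    apply e.injective
    rw [show e (h (f a)) = η.map σ (φ (algebraMap B _ (f a))) from e.apply_symm_apply _,
      ← Ideal.ResidueField.map_algebraMap (PrimeSpectrum.comap f Q).asIdeal Q.asIdeal f rfl a]
    change η.map σ ((φ.comp (Ideal.ResidueField.map (PrimeSpectrum.comap f Q).asIdeal Q.asIdeal f rfl)) _) = _
    rw [hφ, map_eta_apply, hσ]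
    rfl
  have hmem : ∀ b, h b ∈ ι.range := by
    intro b
    obtain ⟨p, hp, hp0⟩ := hf b
    have h2 : h.comp f = ι.comp g := RingHom.ext hh
    have h1 : IsIntegral R (h b) := ⟨p.map g, hp.map g, by
      rw [Polynomial.eval₂_map, ← h2, ← Polynomial.hom_eval₂, hp0, map_zero]⟩
    exact IsIntegrallyClosed.isIntegral_iff.mp h1
  refine ⟨(RingEquiv.ofLeftInverse (Function.leftInverse_invFun hι)).symm.toRingHom.comp
    (h.codRestrict ι.range hmem), RingHom.ext fun a => hι ?_⟩
  rw [← hh]
  exact congrArg Subtype.val ((RingEquiv.ofLeftInverse (Function.leftInverse_invFun hι)).apply_symm_apply _)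

section dominates

variable {R : Type u} [CommRing R] [IsDomain R] [ValuationRing R] {E : Type u} [Field E]
  {O : ValuationSubring E}

/-- A valuation ring is the trace of a dominating valuation subring. -/
theorem mem_range_of_dominates (g : R →+* O) (hloc : IsLocalHom g) (j : FractionRing R →+* E)
    (hg : ∀ a, (g a : E) = j (algebraMap R _ a)) (z : FractionRing R) (hz : j z ∈ O) :
    ∃ r, algebraMap R (FractionRing R) r = z := by
  rcases ValuationRing.isInteger_or_isInteger R z with h | ⟨w, hw⟩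
  · exact h
  by_cases hz0 : z = 0
  · exact ⟨0, by rw [map_zero, hz0]⟩
  have hu : IsUnit w := hloc.map_nonunit w (IsUnit.of_mul_eq_one ⟨j z, hz⟩ (Subtype.ext (by
    change (g w : E) * j z = 1
    rw [hg, hw, ← map_mul, inv_mul_cancel₀ hz0, map_one])))
  obtain ⟨v, rfl⟩ := hu
  exact ⟨(v⁻¹ : Rˣ), by rw [map_units_inv, hw, inv_inv]⟩

theorem exists_prime_over (g : R →+* O) (hloc : IsLocalHom g) (j : FractionRing R →+* E)
    (hg : ∀ a, (g a : E) = j (algebraMap R _ a)) (p : PrimeSpectrum R) :
    ∃ q : PrimeSpectrum O, PrimeSpectrum.comap g q = p := by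
  have hgen : ∀ z ∈ p.asIdeal.map g, ∃ c ∈ p.asIdeal, g c ∣ z := by
    intro z hz
    induction hz using Submodule.span_induction with
    | mem z hz =>
      obtain ⟨c, hc, rfl⟩ := hz
      exact ⟨c, hc, dvd_rfl⟩
    | zero => exact ⟨0, zero_mem _, dvd_zero _⟩
    | add a b _ _ ha hb =>
      obtain ⟨c, hc, hca⟩ := ha
      obtain ⟨d, hd, hdb⟩ := hb
      rcases ValuationRing.dvd_total c d with h | h
      · exact ⟨c, hc, dvd_add hca ((map_dvd g h).trans hdb)⟩
      · exact ⟨d, hd, dvd_add ((map_dvd g h).trans hca) hdb⟩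
    | smul a b _ hb =>
      obtain ⟨c, hc, hcb⟩ := hb
      exact ⟨c, hc, dvd_mul_of_dvd_right hcb a⟩
  have hcm : (p.asIdeal.map g).comap g = p.asIdeal := by
    refine le_antisymm (fun a ha => ?_) Ideal.le_comap_map
    obtain ⟨c, hc, z, hz⟩ := hgen _ (Ideal.mem_comap.mp ha)
    by_cases hc0 : algebraMap R (FractionRing R) c = 0
    · have : g a = 0 := by
        rw [hz, show g c = 0 from Subtype.ext (by rw [hg, hc0, map_zero]; rfl), zero_mul]
      have h1 := congrArg (Subtype.val : O → E) this
      rw [hg, ZeroMemClass.coe_zero, map_eq_zero, IsFractionRing.to_map_eq_zero_iff] at h1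
      rw [h1]
      exact zero_mem _
    have hz' : j (algebraMap R (FractionRing R) a / algebraMap R _ c) = z := by
      rw [map_div₀, ← hg, ← hg, div_eq_iff (by rw [hg]; simpa using hc0), mul_comm]
      exact congrArg Subtype.val hz
    obtain ⟨r, hr⟩ := mem_range_of_dominates g hloc j hg _ (hz' ▸ z.2)
    have : a = c * r := IsFractionRing.injective R (FractionRing R) (by
      rw [map_mul, hr, mul_div_cancel₀ _ hc0])
    rw [this]
    exact Ideal.mul_mem_right _ _ hc
  obtain ⟨q, hq, hqc⟩ := (Ideal.comap_map_eq_self_iff_of_isPrime p.asIdeal).mp hcm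
  exact ⟨⟨q, hq⟩, PrimeSpectrum.ext hqc⟩

end dominates

/-- Lifting a map to a valuation ring along an integral map with surjective spectrum. -/
theorem mem_M_iff_of_isIntegral (f : A →+* B) (hf : f.IsIntegral)
    (hs : Function.Surjective (PrimeSpectrum.comap f)) (x : η.N A) :
    x ∈ η.M A ↔ η.Nmap f x ∈ η.M B := by
  refine ⟨Nmap_mem_M η f, fun hx => (mem_M_iff η x).mpr ?_⟩
  intro R _ _ _ hR g
  let ι := algebraMap R (FractionRing R)
  have hι : Function.Injective ι := IsFractionRing.injective R _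
  obtain ⟨Q, hQ⟩ := hs (pt (ι.comp g))
  let P := PrimeSpectrum.comap f Q
  let σ : P.asIdeal.ResidueField →+* FractionRing R :=
    Ideal.ResidueField.lift _ (ι.comp g) (le_of_eq (by simp only [P]; rw [hQ]; rfl))
      (fun a ha => Ne.isUnit fun h0 => ha (by simp only [P]; rw [hQ]; exact h0))
  have hσ : ∀ a, σ (algebraMap A _ a) = ι (g a) := fun a =>
    Ideal.ResidueField.lift_algebraMap (I := P.asIdeal) _ _ _ a
  letI := σ.toAlgebra
  letI := (Ideal.ResidueField.map P.asIdeal Q.asIdeal f rfl).toAlgebra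
  haveI : Nontrivial (TensorProduct P.asIdeal.ResidueField (FractionRing R) Q.asIdeal.ResidueField) :=
    (Algebra.TensorProduct.includeLeft_injective (S := FractionRing R) (R := P.asIdeal.ResidueField)
      (A := FractionRing R) (B := Q.asIdeal.ResidueField) (RingHom.injective _)).nontrivial
  obtain ⟨m, hm⟩ := Ideal.exists_maximal (TensorProduct P.asIdeal.ResidueField (FractionRing R)
    Q.asIdeal.ResidueField)
  letI := Ideal.Quotient.field m
  let E := TensorProduct P.asIdeal.ResidueField (FractionRing R) Q.asIdeal.ResidueField ⧸ m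
  let i₁ : FractionRing R →+* E :=
    (Ideal.Quotient.mk m).comp Algebra.TensorProduct.includeLeftRingHom
  let i₂ : Q.asIdeal.ResidueField →+* E :=
    (Ideal.Quotient.mk m).comp Algebra.TensorProduct.includeRight.toRingHom
  have hi : i₁.comp σ =
      i₂.comp (Ideal.ResidueField.map P.asIdeal Q.asIdeal f rfl) := RingHom.ext fun z => by
    change Ideal.Quotient.mk m (σ z ⊗ₜ 1) = Ideal.Quotient.mk m (1 ⊗ₜ _)
    congr 1
    exact (Algebra.TensorProduct.algebraMap_apply z).symm.trans
      (Algebra.TensorProduct.algebraMap_apply' z)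
  let j : FractionRing R →+* η.obj E := (η.eta E).comp i₁
  let hB : B →+* η.obj E := (η.eta E).comp (i₂.comp (algebraMap B _))
  have hjB : ∀ a, hB (f a) = j (ι (g a)) := by
    intro a
    rw [← hσ]
    have := RingHom.congr_fun hi (algebraMap A _ a)
    simp only [RingHom.comp_apply] at this
    simp only [hB, j, RingHom.comp_apply, this]
    exact congrArg (fun z => η.eta E (i₂ z))
      (Ideal.ResidueField.map_algebraMap P.asIdeal Q.asIdeal f rfl a).symm
  let φ : R →+* η.obj E := j.comp ι
  obtain ⟨O, gO, hgO, hgm⟩ := exists_valuationSubring_over φ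
    ⟨maximalIdeal R, (maximalIdeal.isMaximal R).isPrime⟩
    (le_maximalIdeal (RingHom.ker_ne_top _))
  have hloc : IsLocalHom gO := ⟨fun a ha => by
    by_contra hna
    have h1 : a ∈ RingHom.ker ((residue O).comp gO) := by
      rw [hgm]
      exact (mem_maximalIdeal a).mpr hna
    exact (mem_maximalIdeal _).mp ((residue_eq_zero_iff _).mp (RingHom.mem_ker.mp h1)) ha⟩
  have hgOv : ∀ a, (gO a : η.obj E) = φ a := fun a => RingHom.congr_fun hgO a
  have hmem : ∀ b, hB b ∈ O := by
    intro b
    obtain ⟨p, hp, hp0⟩ := hf b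
    have h2 : hB.comp f = O.subtype.comp (gO.comp g) := RingHom.ext fun a => by
      rw [RingHom.comp_apply, hjB]
      exact (hgOv _).symm
    have h1 : IsIntegral O (hB b) := ⟨p.map (gO.comp g), hp.map _, by
      rw [Polynomial.eval₂_map, show (algebraMap O (η.obj E)).comp (gO.comp g) = hB.comp f from h2.symm,
        ← Polynomial.hom_eval₂, hp0, map_zero]⟩
    obtain ⟨z, hz⟩ := IsIntegrallyClosed.isIntegral_iff.mp h1
    rw [← hz]
    exact z.2
  let g' : B →+* O := hB.codRestrict O.toSubring hmem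
  obtain ⟨r', hr'⟩ := exists_of_mem_M hx (bijective_eta_obj η E) O g'
  obtain ⟨r₀, hr₀⟩ := hR.2 (ev η (ι.comp g) x)
  have hg' : g'.comp f = gO.comp g := RingHom.ext fun a => Subtype.ext (by
    change hB (f a) = (gO (g a) : η.obj E)
    rw [hgOv, hjB]
    rfl)
  have key : ∀ (l : Type u) [Field l] (h : O →+* l),
      ev η ((h.comp gO).comp g) x = η.eta l (h r') := by
    intro l _ h
    rw [RingHom.comp_assoc, ← hg', ← RingHom.comp_assoc, ← ev_Nmap]
    exact hr' l h
  have h1 := key _ O.subtype
  rw [hgO, show φ.comp g = j.comp (ι.comp g) from RingHom.comp_assoc _ _ _, ev_comp, ← hr₀,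
    map_eta_apply] at h1
  have hr'v : (r' : η.obj E) = j r₀ := ((η.eta _).injective h1).symm
  have hgOι : ∀ a, (gO a : η.obj E) = j (ι a) := hgOv
  obtain ⟨r, hr⟩ : ∃ r : R, ι r = r₀ :=
    mem_range_of_dominates gO hloc j hgOι r₀ (hr'v ▸ r'.2)
  have hgr : gO r = r' := Subtype.ext (by rw [hgOv, hr'v, ← hr]; rfl)
  refine ⟨r, fun k _ h => ?_⟩
  -- lift the kernel of `h` to `O`
  obtain ⟨qO, hqO⟩ := exists_prime_over gO hloc j hgOι
    ⟨RingHom.ker h, RingHom.ker_isPrime h⟩
  have hpt : pt (((algebraMap O qO.asIdeal.ResidueField)).comp gO) = pt h := by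
    apply PrimeSpectrum.ext
    change RingHom.ker ((algebraMap O qO.asIdeal.ResidueField).comp gO) = RingHom.ker h
    rw [← RingHom.comap_ker, Ideal.ker_algebraMap_residueField]
    exact congrArg PrimeSpectrum.asIdeal hqO
  have h2 : ev η ((algebraMap O qO.asIdeal.ResidueField).comp gO) (η.Nmap g x - η.t R r) = 0 := by
    rw [map_sub, ev_Nmap, ev_t, key _ (algebraMap O qO.asIdeal.ResidueField), RingHom.comp_apply,
      hgr, sub_self]
  rw [ev_eq_zero_iff, hpt, ← ev_eq_zero_iff, map_sub, ev_Nmap, ev_t, sub_eq_zero] at h2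
  exact h2

end Groth.Agent.EtaPtLib
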