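import Groth.Agent.EtaPtLib.Rel
import Groth.Agent.MorLib.RingUnivHomeo
import Groth.Prelude.Def_HTop2

/-!
The identity endofunctor: universal homeomorphisms with trivial residue field extensions.
-/

universe u

namespace Groth.Agent.EtaPtLib

open EtaPt AlgebraicGeometry CategoryTheory Groth.Agent.MorLib.RUH

variable {A B : Type u} [CommRing A] [CommRing B]

theorem surj_criterion_of_rfac (h : A →+* B) (hr : RFac FieldEndo.ident.{u} h) (q : PrimeSpectrum B) (b : B) :
    ∃ a s : A, h s ∉ q.asIdeal ∧ h s * b - h a ∈ q.asIdeal := by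
  let P := PrimeSpectrum.comap h q
  obtain ⟨φ', hφ'⟩ := hr q
  let φ : q.asIdeal.ResidueField →+* P.asIdeal.ResidueField := φ'
  have hφ : ∀ a, φ (algebraMap B _ (h a)) = algebraMap A _ a := fun a => by
    rw [← Ideal.ResidueField.map_algebraMap P.asIdeal q.asIdeal h rfl a]
    exact RingHom.congr_fun hφ' _
  obtain ⟨a, s, hs, he⟩ := IsFractionRing.div_surjective (A := A ⧸ P.asIdeal) (φ (algebraMap B _ b))
  obtain ⟨a, rfl⟩ := Ideal.Quotient.mk_surjective a
  obtain ⟨s, rfl⟩ := Ideal.Quotient.mk_surjective s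
  have hs' : s ∉ P.asIdeal := fun hh =>
    nonZeroDivisors.ne_zero hs (Ideal.Quotient.eq_zero_iff_mem.mpr hh)
  refine ⟨a, s, hs', Ideal.algebraMap_residueField_eq_zero.mp (φ.injective ?_)⟩
  rw [map_sub, map_mul, map_sub, map_mul, hφ, hφ, map_zero, ← he,
    Ideal.algebraMap_quotient_residueField_mk, Ideal.algebraMap_quotient_residueField_mk,
    mul_div_cancel₀ _ (fun h0 => hs' (Ideal.algebraMap_residueField_eq_zero.mp h0)), sub_self]

theorem residueFieldsIso_of_rfac (h : A →+* B) (hr : RFac FieldEndo.ident.{u} h) :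
    HTop.ResidueFieldsIso (Spec.map (CommRingCat.ofHom h)) := fun q =>
  (ConcreteCategory.isIso_iff_bijective _).mpr
    ⟨RingHom.injective _, (residueFieldMap_surjective_iff h q).mpr (surj_criterion_of_rfac h hr q)⟩

theorem isUnivHomeo_of_rfac (h : A →+* B) (hi : h.IsIntegral)
    (hc : Function.Bijective (PrimeSpectrum.comap h)) (hr : RFac FieldEndo.ident.{u} h) :
    FlatMor.IsUnivHomeo (Spec.map (CommRingCat.ofHom h)) := by
  refine (isUnivHomeo_SpecMap_iff h).mpr ⟨hi, fun K _ f g hfg => RingHom.ext fun b => ?_, hc.2⟩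
  have hker : (⟨RingHom.ker f, RingHom.ker_isPrime f⟩ : PrimeSpectrum B) = ⟨RingHom.ker g, RingHom.ker_isPrime g⟩ :=
    hc.1 (PrimeSpectrum.ext (by
      change (RingHom.ker f).comap h = (RingHom.ker g).comap h
      rw [RingHom.comap_ker, RingHom.comap_ker, hfg]))
  obtain ⟨a, s, hs, hb⟩ := surj_criterion_of_rfac h hr ⟨RingHom.ker f, RingHom.ker_isPrime f⟩ b
  have hb' : h s * b - h a ∈ (⟨RingHom.ker g, RingHom.ker_isPrime g⟩ : PrimeSpectrum B).asIdeal := by
    rw [← hker]; exact hb
  have hb1 : f (h s) * f b = f (h a) := by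
    have : f (h s * b - h a) = 0 := hb
    rwa [map_sub, map_mul, sub_eq_zero] at this
  have hb2 : g (h s) * g b = g (h a) := by
    have : g (h s * b - h a) = 0 := hb'
    rwa [map_sub, map_mul, sub_eq_zero] at this
  rw [← RingHom.comp_apply g h, ← RingHom.comp_apply g h a, ← hfg, RingHom.comp_apply, RingHom.comp_apply,
    ← hb1] at hb2
  exact (mul_left_cancel₀ hs hb2).symm

theorem props_of_univHomeo (h : A →+* B) (hu : FlatMor.IsUnivHomeo (Spec.map (CommRingCat.ofHom h)))
    (hres : HTop.ResidueFieldsIso (Spec.map (CommRingCat.ofHom h))) :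
    h.IsIntegral ∧ Function.Bijective (FieldEndo.ident.{u}.Nmap h) := by
  obtain ⟨hi, hrad, hs⟩ := (isUnivHomeo_SpecMap_iff h).mp hu
  refine ⟨hi, (Nmap_bijective_iff _ h).mpr ⟨⟨injective_comap_of_radicial hrad, hs⟩, fun q => ?_⟩⟩
  let i := Ideal.ResidueField.map (PrimeSpectrum.comap h q).asIdeal q.asIdeal h rfl
  have hib : Function.Bijective i := by
    refine ⟨i.injective, fun z => ?_⟩
    have hcrit := (residueFieldMap_surjective_iff h q).mp
      (((ConcreteCategory.isIso_iff_bijective _).mp (hres q)).2)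
    have key : ∀ b : B, ∃ y, i y = algebraMap B _ b := by
      intro b
      obtain ⟨a, s, hns, hb⟩ := hcrit b
      refine ⟨algebraMap A _ a / algebraMap A _ s, ?_⟩
      rw [map_div₀, Ideal.ResidueField.map_algebraMap (PrimeSpectrum.comap h q).asIdeal q.asIdeal h rfl a,
        Ideal.ResidueField.map_algebraMap (PrimeSpectrum.comap h q).asIdeal q.asIdeal h rfl s,
        div_eq_iff (fun h0 => hns (Ideal.algebraMap_residueField_eq_zero.mp h0)), mul_comm, ← map_mul,
        eq_comm, ← sub_eq_zero, ← map_sub, Ideal.algebraMap_residueField_eq_zero]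
      exact hb
    obtain ⟨b, c, -, rfl⟩ := IsFractionRing.div_surjective (A := B ⧸ q.asIdeal) z
    obtain ⟨b, rfl⟩ := Ideal.Quotient.mk_surjective b
    obtain ⟨c, rfl⟩ := Ideal.Quotient.mk_surjective c
    obtain ⟨y, hy⟩ := key b
    obtain ⟨y', hy'⟩ := key c
    exact ⟨y / y', by rw [map_div₀, hy, hy', Ideal.algebraMap_quotient_residueField_mk,
      Ideal.algebraMap_quotient_residueField_mk]⟩
  exact ⟨(RingEquiv.ofBijective i hib).symm.toRingHom,
    RingHom.ext fun z => (RingEquiv.ofBijective i hib).symm_apply_apply z⟩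

end Groth.Agent.EtaPtLib
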