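import Groth.Agent.EtaPtLib.Rel
import Mathlib.FieldTheory.Perfect

/-!
The pointwise ring of a valuation ring.
-/

universe u

namespace Groth.Agent.EtaPtLib

open EtaPt

variable {η : EtaPt.FieldEndo.{u}}

theorem gen_image (R : Type u) [CommRing R] [IsDomain R] [ValuationRing R]
    (hη : η.InV R ∨ ∀ (k : Type u) [Field k], ringChar k = ringChar R →
      Function.Bijective (η.eta k) → PerfectField k) :
    (fun x : η.N R => x ⟨⊥, Ideal.isPrime_bot⟩) '' (η.M R : Set (η.N R)) =
      {y | ((η.eta (⊥ : Ideal R).ResidueField).comp (algebraMap R (⊥ : Ideal R).ResidueField)).IsIntegralElem y} := by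
  let P₀ : PrimeSpectrum R := ⟨⊥, Ideal.isPrime_bot⟩
  ext y
  constructor
  · rintro ⟨x, hx, rfl⟩
    have h := isIntegralElem_ev hx (algebraMap R P₀.asIdeal.ResidueField)
    rw [ev_algebraMap] at h
    exact h
  intro hy
  let L := (⊥ : Ideal R).ResidueField
  let ι := algebraMap R L
  obtain ⟨n, a₀, ha₀⟩ := η.exists_pow_mem_range_eta L y
  set q := ringExpChar L with hq
  obtain ⟨p, hp, hp0⟩ := hy
  letI := ((η.eta L).comp ι).toAlgebra
  have hyint : IsIntegral R y := ⟨p, hp, hp0⟩
  -- a rational element is integral, hence in `R`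
  have hrange : ∀ c : L, IsIntegral R (η.eta L c) → ∃ r, ι r = c := by
    rintro c ⟨p', hp', hp0'⟩
    refine IsIntegrallyClosed.isIntegral_iff.mp ⟨p', hp', (η.eta L).injective ?_⟩
    rw [Polynomial.hom_eval₂, map_zero]
    exact hp0'
  by_cases hrat : y ∈ Set.range (η.eta L)
  · obtain ⟨c, hc⟩ := hrat
    subst hc
    obtain ⟨r, hr⟩ := hrange c hyint
    refine ⟨η.t R r, η.t_mem_M R r, ?_⟩
    exact congrArg (η.eta L) hr
  obtain ⟨a, ha⟩ := hrange a₀ (by rw [ha₀]; exact hyint.pow _)
  have hperf : ∀ (k : Type u) [Field k], ringChar k = ringChar R →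
      Function.Bijective (η.eta k) → PerfectField k := by
    refine hη.resolve_left fun hV => hrat ?_
    exact (bijective_eta_of_ringEquiv η (FractionRing.algEquiv R L).toRingEquiv hV).2 y
  have hqp : q.Prime := by
    obtain ⟨e, he⟩ := ExpChar.exists L
    have hqe : q = e := ringExpChar.eq L e
    rcases he with _ | hprime
    · exact absurd ⟨a₀, by rw [ha₀, show q = 1 from hqe, one_pow, pow_one]⟩ hrat
    · rwa [hqe]
  have hqL : (q : L) = 0 := by
    obtain ⟨e, he⟩ := ExpChar.exists L
    have hqe : q = e := ringExpChar.eq L e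
    rcases he with _ | hprime
    · exact absurd ⟨a₀, by rw [ha₀, show q = 1 from hqe, one_pow, pow_one]⟩ hrat
    · rw [hqe]; exact CharP.cast_eq_zero L _
  have hqR : (q : R) = 0 := IsFractionRing.injective R L (by rw [map_natCast, map_zero, hqL])
  haveI : CharP R q := (CharP.charP_iff_prime_eq_zero hqp).mpr hqR
  -- roots in fields over `R` at which `η` is bijective
  have hroot : ∀ (k : Type u) [Field k], (R →+* k) → Function.Bijective (η.eta k) →
      ExpChar k q ∧ Function.Bijective fun z : k => z ^ q ^ n := by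
    intro k _ φ hk
    have hk0 : (q : k) = 0 := by rw [← map_natCast φ, hqR, map_zero]
    haveI : CharP k q := (CharP.charP_iff_prime_eq_zero hqp).mpr hk0
    haveI : ExpChar k q := ExpChar.prime hqp
    haveI := hperf k (by rw [ringChar.eq k q, ringChar.eq R q]) hk
    exact ⟨inferInstance, PerfectRing.bijective_frobenius (p := q ^ n)⟩
  have hQ := fun Q : PrimeSpectrum R =>
    hroot (η.obj Q.asIdeal.ResidueField) ((η.eta _).comp (algebraMap R _)) (bijective_eta_obj η _)
  choose x hx using fun Q : PrimeSpectrum R => (hQ Q).2.2 (η.eta _ (algebraMap R Q.asIdeal.ResidueField a))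
  simp only at hx
  refine ⟨x, (mem_M_iff η x).mpr ?_, ?_⟩
  · intro R' _ _ _ hR' g
    obtain ⟨hexp', hbij'⟩ := hroot (FractionRing R') ((algebraMap R' _).comp g) hR'
    obtain ⟨r₀, hr₀⟩ := hbij'.2 (algebraMap R' _ (g a))
    simp only at hr₀
    obtain ⟨r, rfl⟩ := IsIntegrallyClosed.exists_algebraMap_eq_of_isIntegral_pow (R := R') (K := FractionRing R')
      (pow_pos hqp.pos n) (x := r₀) (by rw [hr₀]; exact isIntegral_algebraMap)
    refine ⟨r, fun k _ h => ?_⟩
    obtain ⟨hexp, -⟩ := hroot (η.obj k) (((η.eta k).comp h).comp g) (bijective_eta_obj η k)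
    apply pow_expChar_pow_injective q n
    simp only
    rw [← map_pow (η.eta k), ← map_pow h, ev_def, ← map_pow, hx, map_eta_apply, resLift_algebraMap]
    refine congrArg (fun z => η.eta k (h z)) (IsFractionRing.injective R' (FractionRing R') ?_)
    rw [map_pow, hr₀]
  · haveI := (hQ P₀).1
    apply pow_expChar_pow_injective q n
    simp only
    exact (hx P₀).trans ((congrArg (η.eta L) ha).trans ha₀)

end Groth.Agent.EtaPtLib
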